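import Groth.Agent.Lib.VarDim.Basic
import Groth.Agent.Lib.VarDim.Fibre
import Groth.Agent.Lib.Devissage.Dim
import Groth.Agent.Lib.Snapper.Chi
import Groth.Agent.Lib.Curves.LES
import Groth.Agent.Lib.CohBasics.Closure
import Groth.Agent.Lib.Perfect.Coherent
import Groth.Prelude.Def_PerfAux

/-!
Descending induction on the degree: from finite locally free modules to coherent ones.
-/

set_option linter.style.haveILetI false

universe u

open CategoryTheory CategoryTheory.Limits AlgebraicGeometry TopologicalSpace

namespace Groth.Agent.Lib.LFDevissage51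

open Groth.Agent.Lib

variable (k : Type u) [Field k] {X : Scheme.{u}} [X.Over (Spec (CommRingCat.of k))]

theorem exists_dim_bound [IsNoetherian X] [LocallyOfFiniteType (X ↘ Spec (CommRingCat.of k))] :
    ∃ d : ℕ, topologicalKrullDim X ≤ d := by
  let f := X ↘ Spec (CommRingCat.of k)
  have hmax := Devissage.Dim.finite_maximal (X := X) (T := Set.univ) isClosed_univ
  refine ⟨hmax.toFinset.sup (VarDim.Basic.pdim f), ?_⟩
  have h : topologicalKrullDim (Set.univ : Set X) ≤
      ((hmax.toFinset.sup (VarDim.Basic.pdim f) : ℕ) : WithBot ℕ∞) := by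
    refine (VarDim.Basic.topologicalKrullDim_le_iff f isClosed_univ.isLocallyClosed _).2 fun x _ => ?_
    obtain ⟨y, -, hy, hmy, -⟩ := VarDim.Fibre.exists_maximal (T := (Set.univ : Set X)) isClosed_univ
      (x := x) trivial
    have hy' : y ∈ hmax.toFinset := hmax.mem_toFinset.2 ⟨trivial, hmy⟩
    exact_mod_cast le_trans (VarDim.Basic.pdim_le f hy) (Finset.le_sup (f := VarDim.Basic.pdim f) hy')
  exact ((Homeomorph.Set.univ X).isHomeomorph.topologicalKrullDim_eq).symm.trans_le h

/-- Descending induction along resolutions by finite locally free modules. -/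
theorem descending [IsNoetherian X] [LocallyOfFiniteType (X ↘ Spec (CommRingCat.of k))]
    (hres : PerfAux.HasResolutionProperty X) (r : ℕ) (P : ∀ (F : X.Modules) (_ : ℕ), Prop)
    (hzero : ∀ F i, Subsingleton (Coh.HH X F i) → P F i)
    (hlf : ∀ E : X.Modules, FlatMod.IsFinLocFree E → ∀ i, r < i → P E i)
    (hseq : ∀ (S : ShortComplex X.Modules), S.ShortExact → ∀ i,
      P S.X₂ i → P S.X₁ (i + 1) → P S.X₃ i)
    (F : X.Modules) (hF : Coh.IsCoh F) (i : ℕ) (hi : r < i) : P F i := by
  obtain ⟨d, hd⟩ := exists_dim_bound k (X := X)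
  suffices key : ∀ (j : ℕ) (F : X.Modules), Coh.IsCoh F → ∀ i, r < i → d + 1 ≤ i + j → P F i from
    key (d + 1) F hF i hi (by omega)
  intro j
  induction j with
  | zero => exact fun F _ i _ hij => hzero F i (Snapper.Chi.subsingleton_HH_of_lt hd F (by omega))
  | succ j ih =>
    intro F hF i hi hij
    obtain ⟨E, π, hE, hπ⟩ := hres F hF.1 hF.2
    let S : ShortComplex X.Modules := ShortComplex.mk (kernel.ι π) π (kernel.condition π)
    have hS : S.ShortExact :=
      { exact := ShortComplex.exact_of_f_is_kernel _ (kernelIsKernel π)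
        mono_f := inferInstanceAs (Mono (kernel.ι π))
        epi_g := hπ }
    exact hseq S hS i (hlf E hE i hi)
      (ih _ (CohBasics.Closure.isCoh_kernel π (Perfect.Coherent.isCoh_of_isFinLocFree hE) hF.1)
        (i + 1) (by omega) (by omega))

end Groth.Agent.Lib.LFDevissage51
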